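import Groth.Agent.WeilFin.Basic
import Groth.Agent.HNSplit.Main

/-!
# Duals of tensor powers and of finite sums
-/

set_option autoImplicit false
set_option linter.style.haveILetI false
set_option linter.unusedSectionVars false
set_option backward.isDefEq.respectTransparency false
set_option backward.isDefEq.respectTransparency.types false

universe u

open CategoryTheory CategoryTheory.Limits AlgebraicGeometry TopologicalSpace Opposite
open Groth.Agent.W7Hull (cur uncur curEquiv uncur_tm map_tm)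

noncomputable section

namespace Groth.Agent.WeilFin

variable {X : Scheme.{u}}

/-- Tensoring on the left. -/
def lt' (F : X.Modules) {N N' : X.Modules} (h : N ⟶ N') : CohB1.tensorMod F N ⟶ CohB1.tensorMod F N' :=
  ((DCoh.tensorBi (X := X)).obj F).map h

lemma lt'_tm (F : X.Modules) {N N' : X.Modules} (h : N ⟶ N') {U : X.Opens} (a : Γ(F, U)) (b : Γ(N, U)) :
    (lt' F h).app U (TMul.tm a b) = TMul.tm a (h.app U b) :=
  map_tm F h a b

theorem uncur_comp {F G M M' : X.Modules} (h : M' ⟶ M) (g : M ⟶ RefHull.homSh F G) :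
    uncur (h ≫ g) = lt' F h ≫ uncur g := by
  refine TMul.hom_ext fun U a m => RefStalk.germ_ext fun y hy => ?_
  show _ = WeakAssLib.mgerm G hy ((uncur g).app U ((lt' F h).app U (TMul.tm a m)))
  rw [lt'_tm, uncur_tm, uncur_tm]
  rfl

theorem cur_comp {F G M M' : X.Modules} (h : M' ⟶ M) (φ : CohB1.tensorMod F M ⟶ G) :
    h ≫ cur φ = cur (lt' F h ≫ φ) := by
  refine (curEquiv (F := F) (G := G)).symm.injective ?_
  show uncur (h ≫ cur φ) = uncur (cur (lt' F h ≫ φ))
  rw [uncur_comp, show uncur (cur φ) = φ from curEquiv.symm_apply_apply φ]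
  exact (curEquiv.symm_apply_apply _).symm

theorem assocInv_natural (A B : X.Modules) {M M' : X.Modules} (h : M' ⟶ M) :
    lt' A (lt' B h) ≫ TMul.assocInv A B M = TMul.assocInv A B M' ≫ lt' (CohB1.tensorMod A B) h := by
  refine (cancel_epi (TMul.assocIso A B M').hom).mp (TMul.hom_ext₃ fun U a b m => ?_)
  show (TMul.assocInv A B M).app U ((lt' A (lt' B h)).app U ((TMul.assocHom A B M').app U (TMul.tm (TMul.tm a b) m))) =
    (lt' (CohB1.tensorMod A B) h).app U ((TMul.assocInv A B M').app U ((TMul.assocHom A B M').app U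
      (TMul.tm (TMul.tm a b) m)))
  rw [TMul.assocHom_tm, TMul.assocInv_tm]
  rw [lt'_tm, lt'_tm, TMul.assocInv_tm, lt'_tm]

/-- Currying twice. -/
def curTwice (A B G M : X.Modules) :
    (M ⟶ RefHull.homSh (CohB1.tensorMod A B) G) ≃ (M ⟶ RefHull.homSh B (RefHull.homSh A G)) where
  toFun g := cur (cur (TMul.assocInv A B M ≫ uncur g))
  invFun g := cur ((TMul.assocIso A B M).hom ≫ uncur (uncur g))
  left_inv g := by
    have h1 := (curEquiv (F := B) (M := M) (G := RefHull.homSh A G)).symm_apply_apply (cur (TMul.assocInv A B M ≫ uncur g))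
    have h2 := (curEquiv (F := A) (M := CohB1.tensorMod B M) (G := G)).symm_apply_apply (TMul.assocInv A B M ≫ uncur g)
    change uncur (cur _) = _ at h1 h2
    dsimp only
    rw [h1, h2]
    refine Eq.trans ?_ (curEquiv.apply_symm_apply g)
    exact congrArg cur ((TMul.assocIso A B M).hom_inv_id_assoc _)
  right_inv g := by
    have h1 := (curEquiv (F := CohB1.tensorMod A B) (M := M) (G := G)).symm_apply_apply
      ((TMul.assocIso A B M).hom ≫ uncur (uncur g))
    change uncur (cur _) = _ at h1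
    dsimp only
    rw [h1]
    refine Eq.trans ?_ (curEquiv.apply_symm_apply g)
    exact congrArg cur ((congrArg cur ((TMul.assocIso A B M).inv_hom_id_assoc _)).trans
      (curEquiv.apply_symm_apply (uncur g)))

theorem curTwice_natural (A B G : X.Modules) {M M' : X.Modules} (h : M' ⟶ M)
    (g : M ⟶ RefHull.homSh (CohB1.tensorMod A B) G) :
    curTwice A B G M' (h ≫ g) = h ≫ curTwice A B G M g := by
  show cur (cur (TMul.assocInv A B M' ≫ uncur (h ≫ g))) = h ≫ cur (cur (TMul.assocInv A B M ≫ uncur g))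
  rw [cur_comp, uncur_comp, ← Category.assoc, ← assocInv_natural, Category.assoc, cur_comp]

/-- `ℋom(A ⊗ B, G) ≅ ℋom(B, ℋom(A, G))`. -/
theorem nonempty_homTensor (A B G : X.Modules) :
    Nonempty (RefHull.homSh (CohB1.tensorMod A B) G ≅ RefHull.homSh B (RefHull.homSh A G)) := by
  let α := curTwice A B G (RefHull.homSh (CohB1.tensorMod A B) G) (𝟙 _)
  let β := (curTwice A B G (RefHull.homSh B (RefHull.homSh A G))).symm (𝟙 _)
  have hα : ∀ {M : X.Modules} (g : M ⟶ RefHull.homSh (CohB1.tensorMod A B) G), g ≫ α = curTwice A B G M g :=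
    fun g => by rw [← curTwice_natural, Category.comp_id]
  refine ⟨⟨α, β, (curTwice A B G _).injective ?_, (hα β).trans (Equiv.apply_symm_apply _ _)⟩⟩
  rw [← hα, Category.assoc, (hα β).trans (Equiv.apply_symm_apply _ _), Category.comp_id]

/-- The dual of a tensor product of bundles. -/
theorem nonempty_dualTensor [IsLocallyNoetherian X] {A B : X.Modules} (hB : FlatMod.IsFinLocFree B) :
    Nonempty (RefHull.dual (CohB1.tensorMod A B) ≅ CohB1.tensorMod (RefHull.dual A) (RefHull.dual B)) := by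
  obtain ⟨e⟩ := nonempty_homTensor A B (Coh.structureModule X)
  haveI := ExtShX.isIso_dualTensorTo hB (RefHull.dual A)
  exact ⟨e ≪≫ (asIso (ExtShX.dualTensorTo B (RefHull.dual A))).symm ≪≫ TMul.commIso _ _⟩

/-- The dual of the powers. -/
theorem nonempty_dualPow [IsLocallyNoetherian X] {E : X.Modules} (hE : FlatMod.IsFinLocFree E) : ∀ n : ℕ,
    Nonempty (RefHull.dual (CohB1.tensorPow E n) ≅ CohB1.tensorPow (RefHull.dual E) n)
  | 0 => by
    have hO : PicF.IsInvertible (Coh.structureModule X) := TMul.isInvertible_structureModule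
    haveI := W7Hull.isIso_evDual hO
    exact ⟨(TMul.leftUnitIso _).symm ≪≫ asIso (W7Hull.evDual (Coh.structureModule X))⟩
  | n + 1 => by
    obtain ⟨e⟩ := nonempty_dualPow hE n
    obtain ⟨f⟩ := nonempty_dualTensor (A := CohB1.tensorPow E n) hE
    exact ⟨f ≪≫ PicGrp.tensorModIso e (Iso.refl _)⟩

theorem homComap_add {F F' : X.Modules} (f g : F' ⟶ F) (G : X.Modules) :
    RefFun.homComap (f + g) G = RefFun.homComap f G + RefFun.homComap g G := by
  apply Scheme.Modules.hom_ext
  intro U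
  ext s
  refine Subtype.ext (funext fun y => LinearMap.ext fun v => ?_)
  obtain ⟨V, hV, t, rfl⟩ := TopCat.Presheaf.exists_germ_eq F'.presheaf v
  show s.1 y (RefHull.stalkMapₗ (f + g) y.1 (F'.presheaf.germ V y.1 hV t)) =
    s.1 y (RefHull.stalkMapₗ f y.1 (F'.presheaf.germ V y.1 hV t)) +
      s.1 y (RefHull.stalkMapₗ g y.1 (F'.presheaf.germ V y.1 hV t))
  rw [RefHull.stalkMapₗ_germ, RefHull.stalkMapₗ_germ, RefHull.stalkMapₗ_germ, ← map_add]
  exact congrArg _ (map_add (F.presheaf.germ V y.1 hV).hom _ _)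

/-- Duals of finite sums. -/
theorem nonempty_dualSigma {b : ℕ} (L M : Fin b → X.Modules) (e : ∀ t, RefHull.dual (L t) ≅ M t) :
    Nonempty (RefHull.dual (∐ L) ≅ ∐ M) := by
  classical
  obtain ⟨π, h1, h2, h3⟩ := P1Split.exists_proj L
  obtain ⟨ρ, g1, g2, g3⟩ := P1Split.exists_proj M
  let O := Coh.structureModule X
  let D : (∀ {P Q : X.Modules}, (P ⟶ Q) →+ (RefHull.dual Q ⟶ RefHull.dual P)) :=
    fun {P Q} => AddMonoidHom.mk' (fun f => RefFun.homComap f O) fun f g => homComap_add f g O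
  have hc : ∀ {P Q R : X.Modules} (f : P ⟶ Q) (g : Q ⟶ R), D g ≫ D f = D (f ≫ g) :=
    fun f g => (RefFun.homComap_comp f g O).symm
  refine ⟨⟨∑ t, D (Sigma.ι L t) ≫ (e t).hom ≫ Sigma.ι M t, Sigma.desc fun t => (e t).inv ≫ D (π t), ?_,
    Sigma.hom_ext _ _ fun t => ?_⟩⟩
  · rw [Preadditive.sum_comp]
    refine Eq.trans ?_ ((congrArg D h3).trans (RefFun.homComap_id _ O))
    rw [map_sum]
    refine Finset.sum_congr rfl fun t _ => ?_
    rw [Category.assoc, Category.assoc, Sigma.ι_desc, Iso.hom_inv_id_assoc]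
    exact hc _ _
  · rw [← Category.assoc, Sigma.ι_desc, Category.comp_id, Preadditive.comp_sum, Finset.sum_eq_single t]
    · rw [Category.assoc, ← Category.assoc (D (π t)), hc, h1]
      rw [show D (𝟙 (L t)) = 𝟙 _ from RefFun.homComap_id _ O, Category.id_comp, Iso.inv_hom_id_assoc]
    · intro s _ hst
      rw [Category.assoc, ← Category.assoc (D (π t)), hc, h2 s t hst, map_zero, zero_comp, comp_zero]
    · exact fun h => absurd (Finset.mem_univ _) h

/-- Polynomials in the dual. -/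
theorem nonempty_polyDual [IsLocallyNoetherian X] {E : X.Modules} (hE : FlatMod.IsFinLocFree E) (P : Polynomial ℕ) :
    Nonempty (RefHull.dual (∐ fun i : Fin (P.natDegree + 1) => ∐ fun _ : Fin (P.coeff ↑i) => CohB1.tensorPow E ↑i) ≅
      ∐ fun i : Fin (P.natDegree + 1) => ∐ fun _ : Fin (P.coeff ↑i) => CohB1.tensorPow (RefHull.dual E) ↑i) :=
  nonempty_dualSigma _ _ fun i =>
    (nonempty_dualSigma _ (fun _ => CohB1.tensorPow (RefHull.dual E) ↑i) fun _ => (nonempty_dualPow hE _).some).some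

theorem finite_dual_of_finite [IsLocallyNoetherian X] {E : X.Modules} (hE : FlatMod.IsFinLocFree E)
    (h : ∃ P Q : Polynomial ℕ, P ≠ Q ∧ Nonempty ((∐ fun i : Fin (P.natDegree + 1) => ∐ fun _ : Fin (P.coeff ↑i) => CohB1.tensorPow E ↑i) ≅
      (∐ fun i : Fin (Q.natDegree + 1) => ∐ fun _ : Fin (Q.coeff ↑i) => CohB1.tensorPow E ↑i))) :
    ∃ P Q : Polynomial ℕ, P ≠ Q ∧ Nonempty ((∐ fun i : Fin (P.natDegree + 1) => ∐ fun _ : Fin (P.coeff ↑i) => CohB1.tensorPow (RefHull.dual E) ↑i) ≅
      (∐ fun i : Fin (Q.natDegree + 1) => ∐ fun _ : Fin (Q.coeff ↑i) => CohB1.tensorPow (RefHull.dual E) ↑i)) := by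
  obtain ⟨P, Q, hne, ⟨e⟩⟩ := h
  obtain ⟨a⟩ := nonempty_polyDual hE P
  obtain ⟨b⟩ := nonempty_polyDual hE Q
  exact ⟨P, Q, hne, ⟨a.symm ≪≫ RefFun.homComapIso e (Coh.structureModule X) ≪≫ b⟩⟩

end Groth.Agent.WeilFin
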