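import Groth.Agent.S13693
import Groth.Agent.KrullSch.Coherent
import Groth.Agent.Devissage.Power
import Groth.Agent.TMul.Assoc
import Groth.Agent.CohFinite.Tensor
import Groth.Agent.RefDiv.Ops
import Groth.Agent.RefStalk.Refl
import Groth.Agent.CurveRR.TmapR

/-!
Weil finiteness: the powers of the module involve finitely many indecomposable modules.
-/

set_option autoImplicit false
set_option linter.style.haveILetI false
set_option linter.unusedSectionVars false
set_option backward.isDefEq.respectTransparency false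

universe u

open CategoryTheory CategoryTheory.Limits AlgebraicGeometry
open Groth.Agent.CohFinite (tmap tmap_comp tmap_add tmap_zero tmap_id)

noncomputable section

namespace Groth.Agent.WeilFin

attribute [local instance] Abelian.hasFiniteBiproducts

variable {X : Scheme.{u}}

/-- `M` is a summand of a finite sum of members of `S`. -/
def Add {κ : Type} (S : κ → X.Modules) (M : X.Modules) : Prop :=
  ∃ (τ : Type) (_ : Fintype τ) (σ : τ → κ) (a : ∀ t, M ⟶ S (σ t)) (b : ∀ t, S (σ t) ⟶ M), ∑ t, a t ≫ b t = 𝟙 M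

namespace Add

variable {κ ν : Type} {S : κ → X.Modules}

theorem mem (j : κ) : Add S (S j) := ⟨Unit, inferInstance, fun _ => j, fun _ => 𝟙 _, fun _ => 𝟙 _, by simp⟩

theorem retract {M N : X.Modules} (i : M ⟶ N) (p : N ⟶ M) (h : i ≫ p = 𝟙 M) (hN : Add S N) : Add S M := by
  obtain ⟨τ, _, σ, a, b, hab⟩ := hN
  refine ⟨τ, inferInstance, σ, fun t => i ≫ a t, fun t => b t ≫ p, ?_⟩
  calc ∑ t, (i ≫ a t) ≫ b t ≫ p = i ≫ (∑ t, a t ≫ b t) ≫ p := by
        simp [Preadditive.sum_comp, Preadditive.comp_sum]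
    _ = 𝟙 M := by rw [hab, Category.id_comp, h]

theorem of_iso {M N : X.Modules} (e : M ≅ N) (hN : Add S N) : Add S M := hN.retract e.hom e.inv e.hom_inv_id

theorem of_sum {M : X.Modules} {τ : Type} [Fintype τ] (T : τ → X.Modules) (a : ∀ t, M ⟶ T t) (b : ∀ t, T t ⟶ M)
    (h : ∑ t, a t ≫ b t = 𝟙 M) (hT : ∀ t, Add S (T t)) : Add S M := by
  choose τ' hτ' σ a' b' h' using hT
  refine ⟨Σ t, τ' t, inferInstance, fun p => σ p.1 p.2, fun p => a p.1 ≫ a' p.1 p.2, fun p => b' p.1 p.2 ≫ b p.1, ?_⟩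
  rw [Fintype.sum_sigma, ← h]
  refine Finset.sum_congr rfl fun t _ => ?_
  calc ∑ s, (a t ≫ a' t s) ≫ b' t s ≫ b t = a t ≫ (∑ s, a' t s ≫ b' t s) ≫ b t := by
        simp [Preadditive.sum_comp, Preadditive.comp_sum]
    _ = a t ≫ b t := by rw [h', Category.id_comp]

theorem trans {T : ν → X.Modules} {M : X.Modules} (hM : Add T M) (hT : ∀ j, Add S (T j)) : Add S M := by
  obtain ⟨τ, _, σ, a, b, h⟩ := hM
  exact of_sum (fun t => T (σ t)) a b h fun t => hT _

theorem biprod {M N : X.Modules} (hM : Add S M) (hN : Add S N) : Add S (M ⊞ N) :=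
  of_sum (τ := Bool) (fun t => if t then M else N)
    (fun t => match t with | true => biprod.fst | false => biprod.snd)
    (fun t => match t with | true => biprod.inl | false => biprod.inr)
    (by rw [Fintype.sum_bool]; exact biprod.total)
    fun t => match t with | true => hM | false => hN

theorem sigma {τ : Type} [Fintype τ] (T : τ → X.Modules) (hT : ∀ t, Add S (T t)) : Add S (∐ T) := by
  refine of_iso (biproduct.isoCoproduct T).symm ?_
  exact of_sum T (biproduct.π T) (biproduct.ι T) (biproduct.total (f := T)) hT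

/-- The additive map `φ ↦ φ ⊗ N`. -/
def tmapHom (M M' N : X.Modules) : (M ⟶ M') →+ (CohB1.tensorMod M N ⟶ CohB1.tensorMod M' N) :=
  AddMonoidHom.mk' (fun φ => tmap φ N) fun φ ψ => tmap_add φ ψ N

theorem tensor_right {M : X.Modules} (hM : Add S M) (N : X.Modules) :
    Add (fun j => CohB1.tensorMod (S j) N) (CohB1.tensorMod M N) := by
  obtain ⟨τ, _, σ, a, b, h⟩ := hM
  refine ⟨τ, inferInstance, σ, fun t => tmap (a t) N, fun t => tmap (b t) N, ?_⟩
  calc ∑ t, tmap (a t) N ≫ tmap (b t) N = ∑ t, tmapHom M M N (a t ≫ b t) :=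
        Finset.sum_congr rfl fun t _ => (tmap_comp _ _ N).symm
    _ = 𝟙 _ := by rw [← map_sum, h]; exact tmap_id M N

theorem tensor {S' : ν → X.Modules} {M N : X.Modules} (hM : Add S M) (hN : Add S' N) :
    Add (fun p : κ × ν => CohB1.tensorMod (S p.1) (S' p.2)) (CohB1.tensorMod M N) :=
  (hM.tensor_right N).trans fun j => (of_iso (TMul.commIso (S j) N) (hN.tensor_right (S j))).trans fun i =>
    of_iso (TMul.commIso (S' i) (S j)) (mem (S := fun p : κ × ν => CohB1.tensorMod (S p.1) (S' p.2)) (j, i))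

end Add

/-- Indecomposable modules. -/
abbrev Ind (G : X.Modules) : Prop := ¬ IsZero G ∧ ∀ A B : X.Modules, Nonempty (G ≅ A ⊞ B) → IsZero A ∨ IsZero B

/-- A decomposition into indecomposables. -/
def IsDec (M : X.Modules) {ι : Type} (Fs : ι → X.Modules) [HasCoproduct Fs] : Prop :=
  (∀ i, Ind (Fs i)) ∧ Nonempty (M ≅ ∐ Fs)

open Classical in
/-- The multiplicity of `G` in `M`. -/
def cnt (G M : X.Modules) : ℕ :=
  if h : ∃ (n : ℕ) (Fs : Fin n → X.Modules), IsDec M Fs then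
    Nat.card {i // Nonempty (h.choose_spec.choose i ≅ G)} else 0

variable (k : Type u) [Field k] [X.Over (Spec (CommRingCat.of k))] [IsProper (X ↘ Spec (CommRingCat.of k))]

include k in
theorem exists_dec {M : X.Modules} (hM : Coh.IsCoh M) : ∃ (n : ℕ) (Fs : Fin n → X.Modules), IsDec M Fs :=
  let ⟨n, Fs, h1, h2⟩ := (Groth.Agent.S13693.result k (X ↘ Spec (CommRingCat.of k)) M hM).1
  ⟨n, Fs, h1, h2⟩

include k in
theorem cnt_eq {M : X.Modules} (hM : Coh.IsCoh M) {ι : Type} [Fintype ι] (Fs : ι → X.Modules) (h : IsDec M Fs)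
    (G : X.Modules) : cnt G M = Nat.card {i // Nonempty (Fs i ≅ G)} := by
  have hex := exists_dec k hM
  rw [cnt, dif_pos hex]
  obtain ⟨e'⟩ := hex.choose_spec.choose_spec.2
  obtain ⟨e⟩ := h.2
  let q := (Fintype.equivFin ι).symm
  obtain ⟨σ, hσ⟩ := (Groth.Agent.S13693.result k (X ↘ Spec (CommRingCat.of k)) M hM).2 _ _
    hex.choose_spec.choose (fun j => Fs (q j)) hex.choose_spec.choose_spec.1 (fun j => h.1 _) ⟨e'⟩
    ⟨e ≪≫ (Sigma.whiskerEquiv (f := fun j => Fs (q j)) (g := Fs) q fun j => Iso.refl _).symm⟩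
  refine Nat.card_congr ((σ.trans q).subtypeEquiv fun i => ?_)
  obtain ⟨a⟩ := hσ i
  exact ⟨fun ⟨b⟩ => ⟨a.symm ≪≫ b⟩, fun ⟨b⟩ => ⟨a ≪≫ b⟩⟩

include k in
theorem cnt_iso {M N : X.Modules} (hN : Coh.IsCoh N) (e : M ≅ N) (G : X.Modules) : cnt G M = cnt G N := by
  obtain ⟨n, Fs, hFs, ⟨a⟩⟩ := exists_dec k hN
  rw [cnt_eq k hN Fs ⟨hFs, ⟨a⟩⟩, cnt_eq k (CohFinite.isCoh_of_iso e.symm hN) Fs ⟨hFs, ⟨e ≪≫ a⟩⟩]

include k in
theorem isCoh_sigma' {τ : Type} [Fintype τ] (M : τ → X.Modules) (hM : ∀ t, Coh.IsCoh (M t)) : Coh.IsCoh (∐ M) := by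
  haveI : IsLocallyNoetherian X := LocallyOfFiniteType.isLocallyNoetherian (X ↘ Spec (CommRingCat.of k))
  exact CohFinite.isCoh_of_iso (biproduct.isoCoproduct M) (Devissage.isCoh_biproduct M hM)

include k in
theorem cnt_sigma {τ : Type} [Fintype τ] (M : τ → X.Modules) (hM : ∀ t, Coh.IsCoh (M t)) (G : X.Modules) :
    cnt G (∐ M) = ∑ t, cnt G (M t) := by
  choose n Fs hFs using fun t => exists_dec k (hM t)
  rw [cnt_eq k (isCoh_sigma' k M hM) (fun p : Σ t, Fin (n t) => Fs p.1 p.2)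
    ⟨fun p => (hFs p.1).1 p.2, ⟨Sigma.mapIso (fun t => (hFs t).2.some) ≪≫ sigmaSigmaIso (fun t => Fin (n t)) Fs⟩⟩]
  rw [Finset.sum_congr rfl fun t _ => cnt_eq k (hM t) (Fs t) (hFs t) G, ← Nat.card_sigma]
  exact Nat.card_congr
    { toFun := fun p => ⟨p.1.1, p.1.2, p.2⟩
      invFun := fun p => ⟨⟨p.1, p.2.1⟩, p.2.2⟩
      left_inv := fun p => rfl
      right_inv := fun p => rfl }

include k in
theorem nonempty_iso_of_cnt {M N : X.Modules} (hM : Coh.IsCoh M) (hN : Coh.IsCoh N)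
    (h : ∀ G : X.Modules, cnt G M = cnt G N) : Nonempty (M ≅ N) := by
  classical
  obtain ⟨m, Fs, hFs⟩ := exists_dec k hM
  obtain ⟨n, Gs, hGs⟩ := exists_dec k hN
  letI S : Setoid X.Modules := isIsomorphicSetoid X.Modules
  let f : Fin m → Quotient S := fun i => Quotient.mk S (Fs i)
  let g : Fin n → Quotient S := fun j => Quotient.mk S (Gs j)
  have hc : ∀ c, Nonempty ({i // f i = c} ≃ {j // g j = c}) := fun c => by
    induction c using Quotient.inductionOn with
    | h G =>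
      have hf : {i // f i = Quotient.mk S G} ≃ {i // Nonempty (Fs i ≅ G)} :=
        Equiv.subtypeEquivRight fun i => Quotient.eq
      have hg : {j // g j = Quotient.mk S G} ≃ {j // Nonempty (Gs j ≅ G)} :=
        Equiv.subtypeEquivRight fun j => Quotient.eq
      have := h G
      rw [cnt_eq k hM Fs hFs, cnt_eq k hN Gs hGs] at this
      exact ⟨hf.trans ((Finite.card_eq.1 this).some.trans hg.symm)⟩
  let e := Equiv.ofFiberEquiv fun c => (hc c).some
  obtain ⟨a⟩ := hFs.2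
  obtain ⟨b⟩ := hGs.2
  have he : ∀ i, Nonempty (Gs (e i) ≅ Fs i) := fun i => by
    have := Equiv.ofFiberEquiv_map (fun c => (hc c).some) i
    exact Quotient.exact this
  exact ⟨a ≪≫ Sigma.whiskerEquiv e (fun i => (he i).some) ≪≫ b.symm⟩

include k in
theorem isCoh_of_add {κ : Type} {S : κ → X.Modules} (hS : ∀ j, Coh.IsCoh (S j)) {M : X.Modules} (hM : Add S M) :
    Coh.IsCoh M := by
  obtain ⟨τ, _, σ, a, b, h⟩ := hM
  refine KrullSch.isCoh_retract (k := k) (isCoh_sigma' k (fun t => S (σ t)) fun t => hS _)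
    (∑ t, a t ≫ Sigma.ι (fun t => S (σ t)) t) (Sigma.desc b) ?_
  simp [Preadditive.sum_comp, h]

include k in
/-- An indecomposable summand of a sum is a summand of a member. -/
theorem exists_retract {κ : Type} {S : κ → X.Modules} {G : X.Modules} (hG : Ind G) (hGc : Coh.IsCoh G)
    (h : Add S G) : ∃ (j : κ) (i : G ⟶ S j) (p : S j ⟶ G), i ≫ p = 𝟙 G := by
  obtain ⟨τ, _, σ, a, b, h⟩ := h
  haveI := KrullSch.finite_end (k := k) hGc
  obtain ⟨t, -, ht⟩ := KrullSch.exists_isUnit_of_sum k (X := G) hG Finset.univ (fun t => (a t ≫ b t : End G))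
    (by rw [show ∑ t, (a t ≫ b t : End G) = (1 : End G) from h]; exact isUnit_one)
  haveI : IsIso (a t ≫ b t) := (CategoryTheory.isUnit_iff_isIso _).1 ht
  exact ⟨σ t, a t, b t ≫ inv (a t ≫ b t), by rw [← Category.assoc, IsIso.hom_inv_id]⟩

/-- A summand of an indecomposable is isomorphic to it. -/
theorem nonempty_iso_of_retract {G H : X.Modules} (hG : Ind G) (hH : Ind H) (i : G ⟶ H) (p : H ⟶ G)
    (h : i ≫ p = 𝟙 G) : Nonempty (G ≅ H) := by
  rcases KrullSch.idem_eq (X := H) hH (p ≫ i) (by rw [Category.assoc, reassoc_of% h]) with h0 | h1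
  · refine absurd ((IsZero.iff_id_eq_zero G).2 ?_) hG.1
    calc 𝟙 G = (i ≫ p) ≫ (i ≫ p) := by rw [h, Category.comp_id]
      _ = i ≫ (p ≫ i) ≫ p := by simp only [Category.assoc]
      _ = 0 := by rw [h0, zero_comp, comp_zero]
  · exact ⟨⟨i, p, h, h1⟩⟩

include k in
theorem retract_of_cnt_pos {M G : X.Modules} (hM : Coh.IsCoh M) (h : cnt G M ≠ 0) :
    Ind G ∧ Coh.IsCoh G ∧ ∃ (i : G ⟶ M) (p : M ⟶ G), i ≫ p = 𝟙 G := by
  classical
  obtain ⟨n, Fs, hFs, ⟨e⟩⟩ := exists_dec k hM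
  rw [cnt_eq k hM Fs ⟨hFs, ⟨e⟩⟩, Nat.card_ne_zero] at h
  obtain ⟨⟨t, ⟨a⟩⟩⟩ := h.1
  have hG : Ind G := by
    refine ⟨fun hz => (hFs t).1 (hz.of_iso a), fun A B ⟨c⟩ => (hFs t).2 A B ⟨a ≪≫ c⟩⟩
  have hret : a.inv ≫ Sigma.ι Fs t ≫ e.inv ≫ e.hom ≫
      Sigma.desc (fun s => if hs : s = t then eqToHom (by rw [hs]) ≫ a.hom else 0) = 𝟙 G := by
    simp
  refine ⟨hG, ?_, a.inv ≫ Sigma.ι Fs t ≫ e.inv,
    e.hom ≫ Sigma.desc (fun s => if hs : s = t then eqToHom (by rw [hs]) ≫ a.hom else 0), by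
      simpa only [Category.assoc] using hret⟩
  exact KrullSch.isCoh_retract (k := k) hM (a.inv ≫ Sigma.ι Fs t ≫ e.inv)
    (e.hom ≫ Sigma.desc (fun s => if hs : s = t then eqToHom (by rw [hs]) ≫ a.hom else 0))
    (by simpa only [Category.assoc] using hret)

include k in
/-- A module lies in the summands of `S` if each of its indecomposables does. -/
theorem add_of_components {κ : Type} {S : κ → X.Modules} {M : X.Modules} (hM : Coh.IsCoh M)
    (h : ∀ G : X.Modules, cnt G M ≠ 0 → Add S G) : Add S M := by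
  obtain ⟨n, Fs, hFs⟩ := exists_dec k hM
  refine Add.of_iso hFs.2.some (Add.sigma Fs fun t => h (Fs t) ?_)
  rw [cnt_eq k hM Fs hFs, Nat.card_ne_zero]
  exact ⟨⟨⟨t, ⟨Iso.refl _⟩⟩⟩, inferInstance⟩

/-- The module of a polynomial. -/
abbrev polyMod (E : X.Modules) (P : Polynomial ℕ) : X.Modules :=
  ∐ fun i : Fin (P.natDegree + 1) => ∐ fun _ : Fin (P.coeff ↑i) => CohB1.tensorPow E ↑i

/-- Finiteness in the sense of Weil. -/
abbrev IsWeilFinite (E : X.Modules) : Prop :=
  ∃ P Q : Polynomial ℕ, P ≠ Q ∧ Nonempty (polyMod E P ≅ polyMod E Q)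

include k in
theorem isCoh_pow {E : X.Modules} (hE : Coh.IsCoh E) : ∀ n, Coh.IsCoh (CohB1.tensorPow E n)
  | 0 =>
    haveI : IsLocallyNoetherian X := LocallyOfFiniteType.isLocallyNoetherian (X ↘ Spec (CommRingCat.of k))
    RefStalk.isCoh_structureModule
  | n + 1 =>
    haveI : IsLocallyNoetherian X := LocallyOfFiniteType.isLocallyNoetherian (X ↘ Spec (CommRingCat.of k))
    CurveRR.isCoh_tensor' (isCoh_pow hE n) hE

include k in
theorem cnt_polyMod {E : X.Modules} (hE : Coh.IsCoh E) (P : Polynomial ℕ) (G : X.Modules) (N : ℕ)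
    (hN : P.natDegree < N) :
    cnt G (polyMod E P) = ∑ i ∈ Finset.range N, P.coeff i * cnt G (CohB1.tensorPow E i) := by
  rw [cnt_sigma k _ (fun i => isCoh_sigma' k _ fun _ => isCoh_pow k hE _),
    Finset.sum_congr rfl fun (i : Fin (P.natDegree + 1)) _ =>
      (cnt_sigma k (fun _ : Fin (P.coeff ↑i) => CohB1.tensorPow E ↑i) (fun _ => isCoh_pow k hE _) G).trans
        (by rw [Finset.sum_const, Finset.card_univ, Fintype.card_fin, smul_eq_mul]),
    Fin.sum_univ_eq_sum_range (fun i => P.coeff i * cnt G (CohB1.tensorPow E i))]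
  refine Finset.sum_subset (Finset.range_mono (by omega)) fun i _ hi => ?_
  rw [Polynomial.coeff_eq_zero_of_natDegree_lt (by rw [Finset.mem_range] at hi; omega), zero_mul]

include k in
/-- Weil finite modules have powers built from finitely many of them. -/
theorem exists_family {E : X.Modules} (hE : Coh.IsCoh E) (h : IsWeilFinite E) :
    ∃ (d : ℕ), ∀ n, Add (fun i : Fin d => CohB1.tensorPow E ↑i) (CohB1.tensorPow E n) := by
  obtain ⟨P, Q, hne, ⟨e⟩⟩ := h
  let N := max P.natDegree Q.natDegree + 1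
  have hzero : ∀ i, N ≤ i → P.coeff i = Q.coeff i := fun i hi => by
    rw [Polynomial.coeff_eq_zero_of_natDegree_lt (by omega), Polynomial.coeff_eq_zero_of_natDegree_lt (by omega)]
  let D := (Finset.range N).filter fun i => P.coeff i ≠ Q.coeff i
  have hD : D.Nonempty := by
    by_contra hD
    refine hne (Polynomial.ext fun i => ?_)
    by_cases hi : i < N
    · by_contra hc
      exact hD ⟨i, Finset.mem_filter.2 ⟨Finset.mem_range.2 hi, hc⟩⟩
    · exact hzero i (by omega)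
  let d := D.max' hD
  obtain ⟨hdN, hd⟩ := Finset.mem_filter.1 (D.max'_mem hD)
  rw [Finset.mem_range] at hdN
  have hgt : ∀ i, d < i → P.coeff i = Q.coeff i := fun i hi => by
    by_cases hiN : i < N
    · by_contra hc
      exact absurd (D.le_max' i (Finset.mem_filter.2 ⟨Finset.mem_range.2 hiN, hc⟩)) (not_le.2 hi)
    · exact hzero i (by omega)
  refine ⟨d, ?_⟩
  have hdd : Add (fun i : Fin d => CohB1.tensorPow E ↑i) (CohB1.tensorPow E d) := by
    refine add_of_components k (isCoh_pow k hE d) fun G hG => ?_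
    obtain ⟨hGi, hGc, -⟩ := retract_of_cnt_pos k (isCoh_pow k hE d) hG
    obtain ⟨i, hi, hGE⟩ : ∃ i, i < d ∧ cnt G (CohB1.tensorPow E i) ≠ 0 := by
      by_contra! hno
      have h1 := cnt_iso k (isCoh_sigma' k _ fun i => isCoh_sigma' k _ fun _ => isCoh_pow k hE _) e G
      rw [cnt_polyMod k hE P G N (by omega), cnt_polyMod k hE Q G N (by omega),
        ← Finset.sum_erase_add _ _ (Finset.mem_range.2 hdN), ← Finset.sum_erase_add _ _ (Finset.mem_range.2 hdN),
        Finset.sum_congr rfl (g := fun i => Q.coeff i * cnt G (CohB1.tensorPow E i)) fun i hi => by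
          rcases lt_trichotomy i d with h | h | h
          · rw [hno i h, mul_zero, mul_zero]
          · exact absurd h (Finset.mem_erase.1 hi).1
          · rw [hgt i h]] at h1
      exact hd (Nat.eq_of_mul_eq_mul_right (Nat.pos_of_ne_zero hG) (Nat.add_left_cancel h1))
    obtain ⟨-, -, a, b, hab⟩ := retract_of_cnt_pos k (isCoh_pow k hE i) hGE
    exact (Add.mem (S := fun i : Fin d => CohB1.tensorPow E ↑i) ⟨i, hi⟩).retract a b hab
  intro n
  induction n with
  | zero =>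
    rcases Nat.eq_zero_or_pos d with h | h
    · exact h ▸ hdd
    · exact Add.mem (S := fun i : Fin d => CohB1.tensorPow E ↑i) ⟨0, h⟩
  | succ m ih =>
    refine (ih.tensor_right E).trans fun i => ?_
    show Add _ (CohB1.tensorPow E (↑i + 1))
    rcases Nat.lt_or_ge (↑i + 1) d with h | h
    · exact Add.mem (S := fun i : Fin d => CohB1.tensorPow E ↑i) ⟨↑i + 1, h⟩
    · rwa [show (↑i + 1 : ℕ) = d from le_antisymm i.2 h]

include k in
/-- Powers built from finitely many coherent modules: Weil finite. -/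
theorem isWeilFinite_of_family {E : X.Modules} (hE : Coh.IsCoh E) {κ : Type} [Fintype κ] (S : κ → X.Modules)
    (hS : ∀ j, Coh.IsCoh (S j)) (h : ∀ n, Add S (CohB1.tensorPow E n)) : IsWeilFinite E := by
  classical
  choose m Fs hFs using fun j => exists_dec k (hS j)
  let J : (Σ j, Fin (m j)) → X.Modules := fun p => Fs p.1 p.2
  have hJ : ∀ n, Add J (CohB1.tensorPow E n) := fun n => (h n).trans fun j =>
    Add.of_iso (hFs j).2.some (Add.sigma (Fs j) fun t => Add.mem (S := J) ⟨j, t⟩)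
  let N := Fintype.card (Σ j, Fin (m j))
  let v : Fin (N + 1) → ((Σ j, Fin (m j)) → ℤ) := fun i p => (cnt (J p) (CohB1.tensorPow E ↑i) : ℤ)
  have hnli : ¬ LinearIndependent ℤ v := fun hli => by
    have := hli.fintype_card_le_finrank
    rw [Fintype.card_fin, Module.finrank_pi] at this
    omega
  obtain ⟨g, hg, i₀, hi₀⟩ := Fintype.not_linearIndependent_iff.1 hnli
  let mk : (Fin (N + 1) → ℕ) → Polynomial ℕ := fun c => ∑ i : Fin (N + 1), Polynomial.monomial ↑i (c i)
  have hcoeff : ∀ c (i : Fin (N + 1)), (mk c).coeff ↑i = c i := fun c i => by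
    simp [mk, Polynomial.finsetSum_coeff, Polynomial.coeff_monomial, Fin.val_inj]
  have hdeg : ∀ c, (mk c).natDegree < N + 1 := fun c =>
    Nat.lt_succ_of_le (Polynomial.natDegree_sum_le_of_forall_le _ _ fun i _ =>
      (Polynomial.natDegree_monomial_le _).trans (Nat.le_of_lt_succ i.2))
  refine ⟨mk fun i => (g i).toNat, mk fun i => (-g i).toNat, fun he => hi₀ ?_, ?_⟩
  · have := congrArg (fun P : Polynomial ℕ => P.coeff ↑i₀) he
    simp only [hcoeff] at this
    omega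
  refine nonempty_iso_of_cnt k (isCoh_sigma' k _ fun i => isCoh_sigma' k _ fun _ => isCoh_pow k hE _)
    (isCoh_sigma' k _ fun i => isCoh_sigma' k _ fun _ => isCoh_pow k hE _) fun G => ?_
  rw [cnt_polyMod k hE _ G (N + 1) (hdeg _), cnt_polyMod k hE _ G (N + 1) (hdeg _),
    ← Fin.sum_univ_eq_sum_range, ← Fin.sum_univ_eq_sum_range]
  simp only [hcoeff]
  by_cases hp : ∃ p, Nonempty (J p ≅ G)
  · obtain ⟨p, ⟨a⟩⟩ := hp
    have hcong : ∀ {M : X.Modules}, Coh.IsCoh M → cnt G M = cnt (J p) M := fun {M} hM => by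
      obtain ⟨n, F, hF⟩ := exists_dec k hM
      rw [cnt_eq k hM F hF, cnt_eq k hM F hF]
      exact Nat.card_congr (Equiv.subtypeEquivRight fun i =>
        ⟨fun ⟨b⟩ => ⟨b ≪≫ a.symm⟩, fun ⟨b⟩ => ⟨b ≪≫ a⟩⟩)
    have h0 := congrFun hg p
    simp only [Finset.sum_apply, Pi.smul_apply, smul_eq_mul, Pi.zero_apply, v] at h0
    simp only [fun i : Fin (N + 1) => hcong (isCoh_pow k hE ↑i)]
    apply Nat.cast_injective (R := ℤ)
    push_cast
    rw [← sub_eq_zero, ← Finset.sum_sub_distrib, ← h0]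
    refine Finset.sum_congr rfl fun i _ => ?_
    rw [← sub_mul, Int.toNat_sub_toNat_neg]
  · have hz : ∀ i : Fin (N + 1), cnt G (CohB1.tensorPow E ↑i) = 0 := fun i => by
      by_contra hne
      obtain ⟨hGi, hGc, a, b, hab⟩ := retract_of_cnt_pos k (isCoh_pow k hE ↑i) hne
      obtain ⟨p, a', b', hab'⟩ := exists_retract k hGi hGc ((hJ ↑i).retract a b hab)
      exact hp ⟨p, ⟨(nonempty_iso_of_retract hGi ((hFs p.1).1 p.2) a' b' hab').some.symm⟩⟩
    simp [hz]

include k in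
/-- A summand of a Weil finite module is Weil finite. -/
theorem IsWeilFinite.retract {E E' : X.Modules} (hE : Coh.IsCoh E) (h : IsWeilFinite E) (i : E' ⟶ E) (p : E ⟶ E')
    (hip : i ≫ p = 𝟙 E') : IsWeilFinite E' := by
  obtain ⟨d, hd⟩ := exists_family k hE h
  have hpow : ∀ n, ∃ (a : CohB1.tensorPow E' n ⟶ CohB1.tensorPow E n) (b : CohB1.tensorPow E n ⟶ CohB1.tensorPow E' n),
      a ≫ b = 𝟙 _ := by
    intro n
    induction n with
    | zero => exact ⟨𝟙 _, 𝟙 _, Category.comp_id _⟩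
    | succ n ih =>
      obtain ⟨a, b, hab⟩ := ih
      refine ⟨tmap a E' ≫ (TMul.commIso _ _).hom ≫ tmap i _ ≫ (TMul.commIso _ _).hom,
        (TMul.commIso _ _).inv ≫ tmap p _ ≫ (TMul.commIso _ _).inv ≫ tmap b E', ?_⟩
      simp only [Category.assoc, Iso.hom_inv_id_assoc]
      rw [← reassoc_of% (tmap_comp i p _), hip, tmap_id, Category.id_comp, Iso.hom_inv_id_assoc, ← tmap_comp, hab,
        tmap_id]
      rfl
  refine isWeilFinite_of_family k (KrullSch.isCoh_retract (k := k) hE i p hip)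
    (fun i : Fin d => CohB1.tensorPow E ↑i) (fun j => isCoh_pow k hE _) fun n => ?_
  obtain ⟨a, b, hab⟩ := hpow n
  exact (hd n).retract a b hab

/-- Powers of a sum are built from products of powers. -/
theorem add_pow_biprod (E₁ E₂ : X.Modules) : ∀ n,
    Add (fun p : ℕ × ℕ => CohB1.tensorMod (CohB1.tensorPow E₁ p.1) (CohB1.tensorPow E₂ p.2))
      (CohB1.tensorPow (E₁ ⊞ E₂) n)
  | 0 => Add.of_iso (TMul.leftUnitIso _).symm
      (Add.mem (S := fun p : ℕ × ℕ => CohB1.tensorMod (CohB1.tensorPow E₁ p.1) (CohB1.tensorPow E₂ p.2)) (0, 0))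
  | n + 1 => by
    let S := fun p : ℕ × ℕ => CohB1.tensorMod (CohB1.tensorPow E₁ p.1) (CohB1.tensorPow E₂ p.2)
    refine ((add_pow_biprod E₁ E₂ n).tensor (S' := fun b : Bool => if b then E₁ else E₂)
      (Add.biprod (Add.mem (S := fun b : Bool => if b then E₁ else E₂) true)
        (Add.mem (S := fun b : Bool => if b then E₁ else E₂) false))).trans fun q => ?_
    obtain ⟨⟨a, b⟩, c⟩ := q
    cases c
    · exact Add.of_iso (TMul.assocIso _ _ _) (Add.mem (S := S) (a, b + 1))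
    · exact Add.of_iso (TMul.assocIso _ _ _ ≪≫ PicGrp.tensorModIso (Iso.refl _) (TMul.commIso _ _) ≪≫
        (TMul.assocIso _ _ _).symm) (Add.mem (S := S) (a + 1, b))

include k in
theorem IsWeilFinite.biprod {E₁ E₂ : X.Modules} (h₁c : Coh.IsCoh E₁) (h₂c : Coh.IsCoh E₂) (h₁ : IsWeilFinite E₁)
    (h₂ : IsWeilFinite E₂) : IsWeilFinite (E₁ ⊞ E₂) := by
  haveI : IsLocallyNoetherian X := LocallyOfFiniteType.isLocallyNoetherian (X ↘ Spec (CommRingCat.of k))
  obtain ⟨d₁, hd₁⟩ := exists_family k h₁c h₁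
  obtain ⟨d₂, hd₂⟩ := exists_family k h₂c h₂
  refine isWeilFinite_of_family k (isCoh_of_add k (S := fun b : Bool => if b then E₁ else E₂)
      (fun b => by cases b <;> simpa) ((Add.mem (S := fun b : Bool => if b then E₁ else E₂) true).biprod
        (Add.mem (S := fun b : Bool => if b then E₁ else E₂) false)))
    (fun p : Fin d₁ × Fin d₂ => CohB1.tensorMod (CohB1.tensorPow E₁ ↑p.1) (CohB1.tensorPow E₂ ↑p.2))
    (fun p => CurveRR.isCoh_tensor' (isCoh_pow k h₁c _) (isCoh_pow k h₂c _)) fun n => ?_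
  exact (add_pow_biprod E₁ E₂ n).trans fun p => (hd₁ p.1).tensor (hd₂ p.2)

theorem nonempty_pow_tensor (E₁ E₂ : X.Modules) : ∀ n, Nonempty (CohB1.tensorPow (CohB1.tensorMod E₁ E₂) n ≅
    CohB1.tensorMod (CohB1.tensorPow E₁ n) (CohB1.tensorPow E₂ n))
  | 0 => ⟨(TMul.leftUnitIso _).symm⟩
  | n + 1 => by
    obtain ⟨e⟩ := nonempty_pow_tensor E₁ E₂ n
    exact ⟨PicGrp.tensorModIso e (Iso.refl _) ≪≫ TMul.assocIso _ _ _ ≪≫
      PicGrp.tensorModIso (Iso.refl _) ((TMul.assocIso _ _ _).symm ≪≫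
        PicGrp.tensorModIso (TMul.commIso _ _) (Iso.refl _) ≪≫ TMul.assocIso _ _ _) ≪≫
      (TMul.assocIso _ _ _).symm⟩

include k in
theorem IsWeilFinite.tensor {E₁ E₂ : X.Modules} (h₁c : Coh.IsCoh E₁) (h₂c : Coh.IsCoh E₂) (h₁ : IsWeilFinite E₁)
    (h₂ : IsWeilFinite E₂) : IsWeilFinite (CohB1.tensorMod E₁ E₂) := by
  haveI : IsLocallyNoetherian X := LocallyOfFiniteType.isLocallyNoetherian (X ↘ Spec (CommRingCat.of k))
  obtain ⟨d₁, hd₁⟩ := exists_family k h₁c h₁
  obtain ⟨d₂, hd₂⟩ := exists_family k h₂c h₂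
  refine isWeilFinite_of_family k (CurveRR.isCoh_tensor' h₁c h₂c)
    (fun p : Fin d₁ × Fin d₂ => CohB1.tensorMod (CohB1.tensorPow E₁ ↑p.1) (CohB1.tensorPow E₂ ↑p.2))
    (fun p => CurveRR.isCoh_tensor' (isCoh_pow k h₁c _) (isCoh_pow k h₂c _)) fun n => ?_
  exact Add.of_iso (nonempty_pow_tensor E₁ E₂ n).some ((hd₁ n).tensor (hd₂ n))

end Groth.Agent.WeilFin
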