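import Groth.Agent.ExtShX.DualTensor
import Groth.Agent.ResDesc.Main

/-!
A finite locally free cover of invertible degree splits the pullback: `E` is a summand of `f_* f^* E`.
-/

set_option autoImplicit false
set_option linter.style.haveILetI false
set_option linter.unusedSectionVars false
set_option backward.isDefEq.respectTransparency false

universe u

open CategoryTheory CategoryTheory.Limits AlgebraicGeometry TopologicalSpace Opposite
open Groth.Agent.QC (res resO res_res res_self res_smul app_res section_eq_of_locally)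
open Groth.Agent.WeakAssLib (mgerm mgerm_smul mgerm_res)
open Groth.Agent.ResDesc (algMod coord coord_germ oneS evDual)
open TMul (homOf val_homOf tm IsFrame)

noncomputable section

namespace Groth.Agent.WeilFin.Trace

variable {X Y : Scheme.{u}} (f : Y ⟶ X)

/-- Multiplication of `f_* O`. -/
def mulBil (U : X.Opens) : Γ(algMod f, U) →ₗ[Γ(X, U)] Γ(algMod f, U) →ₗ[Γ(X, U)] Γ(algMod f, U) :=
  LinearMap.mk₂ _
    (fun a b => (show Γ(algMod f, U) from (show Γ(Y, f ⁻¹ᵁ U) from a) * (show Γ(Y, f ⁻¹ᵁ U) from b)))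
    (fun a a' b => add_mul (show Γ(Y, f ⁻¹ᵁ U) from a) (show Γ(Y, f ⁻¹ᵁ U) from a') (show Γ(Y, f ⁻¹ᵁ U) from b))
    (fun r a b => mul_assoc (f.app U r) (show Γ(Y, f ⁻¹ᵁ U) from a) (show Γ(Y, f ⁻¹ᵁ U) from b))
    (fun a b b' => mul_add (show Γ(Y, f ⁻¹ᵁ U) from a) (show Γ(Y, f ⁻¹ᵁ U) from b) (show Γ(Y, f ⁻¹ᵁ U) from b'))
    (fun r a b => mul_left_comm (show Γ(Y, f ⁻¹ᵁ U) from a) (f.app U r) (show Γ(Y, f ⁻¹ᵁ U) from b))

/-- Multiplication as a morphism. -/
def mulHom : CohB1.tensorMod (algMod f) (algMod f) ⟶ algMod f :=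
  TMul.lift (mulBil f) (by
    intro V U h a b
    exact map_mul (Y.presheaf.map (homOfLE (f.preimage_mono h)).op).hom (show Γ(Y, f ⁻¹ᵁ U) from a)
      (show Γ(Y, f ⁻¹ᵁ U) from b))

/-- The section one. -/
abbrev one : Γ(algMod f, (⊤ : X.Opens)) := (1 : Γ(Y, f ⁻¹ᵁ ⊤))

theorem mul_one' {U : X.Opens} (a : Γ(algMod f, U)) :
    (mulHom f).app U (tm a (res (algMod f) le_top (one f))) = a := by
  refine (TMul.lift_tm (mulBil f) (fun {V U} h a b => ?_) a (res (algMod f) le_top (one f))).trans ?_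
  · exact map_mul (Y.presheaf.map (homOfLE (f.preimage_mono h)).op).hom (show Γ(Y, f ⁻¹ᵁ U) from a)
      (show Γ(Y, f ⁻¹ᵁ U) from b)
  show (show Γ(Y, f ⁻¹ᵁ U) from a) *
    (Y.presheaf.map (homOfLE (f.preimage_mono (le_top : U ≤ ⊤))).op).hom (1 : Γ(Y, f ⁻¹ᵁ ⊤)) = a
  rw [map_one, mul_one]

/-- The trace. -/
def tr (hP : FlatMod.IsFinLocFree (algMod f)) : algMod f ⟶ Coh.structureModule X :=
  haveI := ExtShX.isIso_dualTensorTo hP (algMod f)
  W7Hull.cur (mulHom f) ≫ inv (ExtShX.dualTensorTo (algMod f) (algMod f)) ≫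
    (TMul.commIso _ _).hom ≫ evDual (algMod f)

theorem tr_one (hP : FlatMod.IsFinLocFree (algMod f)) {U : X.Opens} {n : ℕ} {e : Fin n → Γ(algMod f, U)}
    (he : IsFrame e) {V : X.Opens} (hV : V ≤ U) :
    (tr f hP).app V (res (algMod f) le_top (one f)) = ((n : Γ(X, V)) : Γ(Coh.structureModule X, V)) := by
  classical
  haveI := ExtShX.isIso_dualTensorTo hP (algMod f)
  let D := ExtShX.dualTensorTo (algMod f) (algMod f)
  let w := ∑ i, tm (res (RefHull.dual (algMod f)) hV (coord he i)) (res (algMod f) hV (e i))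
  have hw : (W7Hull.cur (mulHom f)).app V (res (algMod f) le_top (one f)) = D.app V w := by
    refine Subtype.ext (funext fun y => ExtShX.ext_frame he (hV y.2) fun j => ?_)
    rw [ExtShX.dualTensorTo_app he (algMod f) hV (fun i => res (algMod f) hV (e i)) y.2 j,
      ← mgerm_res (algMod f) hV y.2, W7Hull.cur_app (mulHom f) _ y.2 le_rfl y.2, res_self, mul_one', mgerm_res]
  have h0 : (inv D).app V (D.app V w) = w :=
    congrArg (fun g : _ ⟶ _ => Scheme.Modules.Hom.app g V w) (IsIso.hom_inv_id D)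
  show (evDual (algMod f)).app V ((TMul.commHom _ _).app V ((inv D).app V
    ((W7Hull.cur (mulHom f)).app V (res (algMod f) le_top (one f))))) = _
  rw [hw, h0, map_sum, map_sum]
  refine RefStalk.germ_ext fun y hy => ?_
  rw [map_sum]
  refine (Finset.sum_congr rfl (g := fun _ => oneS y) fun i _ => ?_).trans ?_
  · rw [TMul.commHom_tm, ResDesc.evDual, W7Hull.uncur_tm, mgerm_res]
    exact (coord_germ he i i (hV hy)).trans (if_pos rfl)
  rw [Finset.sum_const, Finset.card_univ, Fintype.card_fin, ← Nat.cast_smul_eq_nsmul (X.presheaf.stalk y),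
    ← map_natCast (X.presheaf.germ V y hy).hom n]
  exact ResDesc.germ_smul_one hy _

theorem isIso_one_tr [Surjective f] (hP : FlatMod.IsFinLocFree (algMod f))
    (hu : ∀ (V : X.Opens) (n : ℕ), IsUnit ((n + 1 : ℕ) : Γ(X, V))) :
    IsIso (homOf (one f) ≫ tr f hP) := by
  have key : ∀ {U : X.Opens} {n : ℕ} {e : Fin (n + 1) → Γ(algMod f, U)}, IsFrame e → ∀ {V : X.Opens}, V ≤ U →
      Function.Bijective ((homOf (one f) ≫ tr f hP).app V) := fun {U n e} he {V} hV => by
    obtain ⟨c, hc⟩ := hu V n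
    have h : ∀ a : Γ(Coh.structureModule X, V), (homOf (one f) ≫ tr f hP).app V a =
        ((show Γ(X, V) from a) * c : Γ(X, V)) := fun a => by
      show (tr f hP).app V ((homOf (one f)).app V a) = _
      rw [TMul.app_eq_smul, val_homOf, TMul.app_smul, tr_one f hP he hV, hc]
      rfl
    refine ⟨fun a b hab => ?_, fun b => ⟨((show Γ(X, V) from b) * (↑c⁻¹ : Γ(X, V)) : Γ(X, V)), ?_⟩⟩
    · rw [h, h] at hab
      exact (Units.mul_left_inj c).1 hab
    · rw [h]
      exact Units.inv_mul_cancel_right _ c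
  refine GrT.isIso_of_locally _ (fun W => (injective_iff_map_eq_zero _).mpr fun s hs =>
    section_eq_of_locally fun x hx => ?_) fun W t x hx => ?_
  · obtain ⟨U, n, e, hxU, he⟩ := ResDesc.pos_frames f hP x
    refine ⟨W ⊓ U, inf_le_left, ⟨hx, hxU⟩, (key he inf_le_right).1 ?_⟩
    rw [← app_res, hs, map_zero, map_zero]
  · obtain ⟨U, n, e, hxU, he⟩ := ResDesc.pos_frames f hP x
    exact ⟨W ⊓ U, inf_le_left, ⟨hx, hxU⟩, (key he inf_le_right).2 _⟩

/-- `E` is a summand of `f_* f^* E`. -/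
theorem exists_retract [IsFinite f] [Flat f] [LocallyOfFinitePresentation f] [Surjective f]
    (hu : ∀ (V : X.Opens) (n : ℕ), IsUnit ((n + 1 : ℕ) : Γ(X, V))) {E : X.Modules} (hE : Coh.IsQCoh E) :
    ∃ (i : E ⟶ (Scheme.Modules.pushforward f).obj ((Scheme.Modules.pullback f).obj E))
      (p : (Scheme.Modules.pushforward f).obj ((Scheme.Modules.pullback f).obj E) ⟶ E), i ≫ p = 𝟙 E := by
  have hP : FlatMod.IsFinLocFree (algMod f) := ResDesc.isFinLocFree_push f (ResDesc.isFinLocFree_structureModule Y)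
  haveI := ResDesc.isIso_phi f E hP hE
  haveI := isIso_one_tr f hP hu
  let φ := ResDesc.phi f E
  refine ⟨(TMul.leftUnitIso E).inv ≫ CohFinite.tmap (homOf (one f)) E ≫ φ,
    inv φ ≫ CohFinite.tmap (tr f hP ≫ inv (homOf (one f) ≫ tr f hP)) E ≫ (TMul.leftUnitIso E).hom, ?_⟩
  rw [Category.assoc, Category.assoc, IsIso.hom_inv_id_assoc, ← Category.assoc (CohFinite.tmap _ _),
    ← CohFinite.tmap_comp, ← Category.assoc (homOf (one f)), IsIso.hom_inv_id, CohFinite.tmap_id, Category.id_comp,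
    Iso.inv_hom_id]

end Groth.Agent.WeilFin.Trace
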