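import Groth.Agent.P1Split.Dim
import Groth.Agent.VBTwo.Basic
import Groth.Agent.NegTwist.Main

/-!
# Polynomials in a module
-/

set_option autoImplicit false
set_option linter.style.haveILetI false
set_option linter.unusedSectionVars false
set_option backward.isDefEq.respectTransparency false

universe u

open CategoryTheory CategoryTheory.Limits AlgebraicGeometry
open Groth.Agent.CurveRR Groth.Agent.CohFinite Groth.Agent.W7Slope

noncomputable section

namespace Groth.Agent.WeilFin

variable {X : Scheme.{u}}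

/-- A finite coproduct with one nonzero summand. -/
theorem nonempty_iso_single {b : ℕ} (M : Fin b → X.Modules) (a : Fin b) (h : ∀ t, t ≠ a → IsZero (M t)) :
    Nonempty ((∐ M) ≅ M a) := by
  classical
  refine ⟨⟨Sigma.desc fun t => if ht : t = a then eqToHom (by rw [ht]) else 0, Sigma.ι M a,
    Sigma.hom_ext _ _ fun t => ?_, by rw [Sigma.ι_desc, dif_pos rfl, eqToHom_refl]⟩⟩
  rw [← Category.assoc, Sigma.ι_desc, Category.comp_id]
  by_cases ht : t = a
  · subst ht
    rw [dif_pos rfl, eqToHom_refl, Category.id_comp]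
  · exact (h t ht).eq_of_src _ _

theorem isZero_sigma_empty {b : ℕ} (hb : b = 0) (M : X.Modules) : IsZero (∐ fun _ : Fin b => M) := by
  subst hb
  exact (IsZero.iff_id_eq_zero _).2 (Sigma.hom_ext _ _ fun t => t.elim0)

/-- The module of a monomial. -/
theorem nonempty_monomial (F : ℕ → X.Modules) (m : ℕ) (P : Polynomial ℕ) (hP : P = Polynomial.X ^ m) :
    Nonempty ((∐ fun i : Fin (P.natDegree + 1) => ∐ fun _ : Fin (P.coeff ↑i) => F ↑i) ≅ F m) := by
  classical
  have hd : P.natDegree = m := by rw [hP, Polynomial.natDegree_X_pow]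
  have hc : ∀ i : ℕ, P.coeff i = if i = m then 1 else 0 := fun i => by rw [hP, Polynomial.coeff_X_pow]
  obtain ⟨e₁⟩ := nonempty_iso_single (fun i : Fin (P.natDegree + 1) => ∐ fun _ : Fin (P.coeff ↑i) => F ↑i)
    ⟨m, by omega⟩ (fun t ht => isZero_sigma_empty (by
      rw [hc, if_neg]
      exact fun h => ht (Fin.ext h)) _)
  have hm : P.coeff m = 1 := by rw [hc, if_pos rfl]
  obtain ⟨e₂⟩ := nonempty_iso_single (fun _ : Fin (P.coeff m) => F m) ⟨0, by omega⟩
    (fun t ht => absurd (Fin.ext (by have := t.isLt; simp only; omega)) ht)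
  exact ⟨e₁ ≪≫ e₂⟩

/-- Dimension of the cohomology of a polynomial in a module. -/
theorem h_polySum (k : Type u) [Field k] [X.Over (Spec (CommRingCat.of k))] [IsProper (X ↘ Spec (CommRingCat.of k))]
    (F : ℕ → X.Modules) (P : Polynomial ℕ) (M : X.Modules) (q : ℕ)
    (hfin : ∀ i, Module.Finite k (Coh.HH X (CohB1.tensorMod (F i) M) q)) :
    h k (CohB1.tensorMod (∐ fun i : Fin (P.natDegree + 1) => ∐ fun _ : Fin (P.coeff ↑i) => F ↑i) M) q =
      ∑ i ∈ Finset.range (P.natDegree + 1), P.coeff i * h k (CohB1.tensorMod (F i) M) q := by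
  obtain ⟨e⟩ := P1Split.nonempty_hh_coprod k (fun i : Fin (P.natDegree + 1) => ∐ fun _ : Fin (P.coeff ↑i) => F ↑i) M q
  haveI : ∀ i : Fin (P.natDegree + 1), Module.Finite k
      (Coh.HH X (CohB1.tensorMod (∐ fun _ : Fin (P.coeff ↑i) => F ↑i) M) q) := fun i => by
    obtain ⟨e'⟩ := P1Split.nonempty_hh_coprod k (fun _ : Fin (P.coeff ↑i) => F ↑i) M q
    haveI := hfin i
    exact Module.Finite.equiv e'.symm
  refine e.finrank_eq.trans ?_
  rw [Module.finrank_pi_fintype, ← Fin.sum_univ_eq_sum_range (fun i => P.coeff i * h k (CohB1.tensorMod (F i) M) q)]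
  refine Finset.sum_congr rfl fun i _ => ?_
  obtain ⟨e'⟩ := P1Split.nonempty_hh_coprod k (fun _ : Fin (P.coeff ↑i) => F ↑i) M q
  haveI := hfin i
  refine e'.finrank_eq.trans ?_
  rw [Module.finrank_pi_fintype, Finset.sum_const, Finset.card_univ, Fintype.card_fin, smul_eq_mul]

/-- Coefficients recovered by an upper or lower triangular pairing. -/
theorem eq_of_triangular (P Q : Polynomial ℕ) (a : ℕ → ℕ → ℕ) (h1 : ∀ j, a j j = 1)
    (hz : (∀ i j, i < j → a i j = 0) ∨ (∀ i j, j < i → a i j = 0))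
    (h : ∀ j, ∑ i ∈ Finset.range (P.natDegree + 1), P.coeff i * a i j =
      ∑ i ∈ Finset.range (Q.natDegree + 1), Q.coeff i * a i j) : P = Q := by
  classical
  by_contra hne
  let N := P.natDegree + Q.natDegree + 1
  have hext : ∀ (R : Polynomial ℕ), R.natDegree + 1 ≤ N → ∀ j,
      ∑ i ∈ Finset.range (R.natDegree + 1), R.coeff i * a i j = ∑ i ∈ Finset.range N, R.coeff i * a i j := by
    intro R hR j
    refine Finset.sum_subset (fun i hi => Finset.mem_range.2 (by have := Finset.mem_range.1 hi; omega)) fun i hi hi' => ?_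
    rw [Polynomial.coeff_eq_zero_of_natDegree_lt (by simp only [Finset.mem_range] at hi'; omega), zero_mul]
  let S := (Finset.range N).filter fun i => P.coeff i ≠ Q.coeff i
  have hS : S.Nonempty := by
    by_contra hS
    refine hne (Polynomial.ext fun i => ?_)
    by_cases hi : i < N
    · by_contra hc
      exact hS ⟨i, Finset.mem_filter.2 ⟨Finset.mem_range.2 hi, hc⟩⟩
    · rw [Polynomial.coeff_eq_zero_of_natDegree_lt (by omega), Polynomial.coeff_eq_zero_of_natDegree_lt (by omega)]
  obtain ⟨j, hj, hoff⟩ : ∃ j ∈ S, ∀ i ∈ Finset.range N, i ≠ j → a i j = 0 ∨ P.coeff i = Q.coeff i := by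
    rcases hz with hz | hz
    · refine ⟨S.max' hS, Finset.max'_mem _ _, fun i hi hij => ?_⟩
      rcases lt_or_gt_of_ne hij with h | h
      · exact Or.inl (hz i _ h)
      · refine Or.inr (by_contra fun hc => ?_)
        have := Finset.le_max' S i (Finset.mem_filter.2 ⟨hi, hc⟩)
        omega
    · refine ⟨S.min' hS, Finset.min'_mem _ _, fun i hi hij => ?_⟩
      rcases lt_or_gt_of_ne hij with h | h
      · refine Or.inr (by_contra fun hc => ?_)
        have := Finset.min'_le S i (Finset.mem_filter.2 ⟨hi, hc⟩)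
        omega
      · exact Or.inl (hz i _ h)
  obtain ⟨hjN, hjne⟩ := Finset.mem_filter.1 hj
  have h' := h j
  rw [hext P (by omega) j, hext Q (by omega) j, ← Finset.add_sum_erase _ _ hjN,
    ← Finset.add_sum_erase _ _ hjN, h1, mul_one, mul_one] at h'
  have : ∑ i ∈ (Finset.range N).erase j, P.coeff i * a i j = ∑ i ∈ (Finset.range N).erase j, Q.coeff i * a i j := by
    refine Finset.sum_congr rfl fun i hi => ?_
    obtain ⟨hij, hiN⟩ := Finset.mem_erase.1 hi
    rcases hoff i hiN hij with h | h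
    · rw [h, mul_zero, mul_zero]
    · rw [h]
  exact hjne (by omega)

variable (k : Type u) [Field k] [IsAlgClosed k] [X.Over (Spec (CommRingCat.of k))]
  [IsProper (X ↘ Spec (CommRingCat.of k))] [IsIntegral X]

include k in
/-- An invertible module satisfying a polynomial equation is torsion. -/
theorem exists_pow_iso_of_eq (hX : RegCurve X) {L : X.Modules} (hL : PicF.IsInvertible L) (P Q : Polynomial ℕ)
    (hPQ : P ≠ Q) (e : Nonempty ((∐ fun i : Fin (P.natDegree + 1) => ∐ fun _ : Fin (P.coeff ↑i) => CohB1.tensorPow L ↑i) ≅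
      (∐ fun i : Fin (Q.natDegree + 1) => ∐ fun _ : Fin (Q.coeff ↑i) => CohB1.tensorPow L ↑i))) :
    ∃ m : ℕ, 0 < m ∧ Nonempty (CohB1.tensorPow L m ≅ Coh.structureModule X) := by
  haveI := isNoetherian_of_proper k X
  obtain ⟨e⟩ := e
  obtain ⟨N, hN, ⟨eN⟩⟩ := W7Hull.exists_tensor_inverse hL
  have hpow := fun n => TMul.isInvertible_tensorPow hL n
  have hpowN := fun n => TMul.isInvertible_tensorPow hN n
  by_contra hno
  have hcases : (∀ j, 0 < j → h k (CohB1.tensorPow N j) 0 = 0) ∨ (∀ j, 0 < j → h k (CohB1.tensorPow L j) 0 = 0) := by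
    by_contra hc
    push Not at hc
    obtain ⟨⟨a, ha, ha'⟩, ⟨b, hb, hb'⟩⟩ := hc
    obtain ⟨s, hs⟩ := exists_section (k := k) hb'
    have hdb := deg_tensorPow (k := k) hX.dim hL b
    have hda := deg_tensorPow (k := k) hX.dim hN a
    have hd := deg_tensor_inv (k := k) hX.dim hL hN
    rw [W7Slope.deg_iso (k := k) eN, deg_structure] at hd
    have hL0 : Curv2.deg k X L 1 = 0 := by
      obtain ⟨t, ht⟩ := exists_section (k := k) ha'
      have h1 := Easy.deg_nonneg (k := k) hX.dim (hpow b) s hs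
      have h2 := Easy.deg_nonneg (k := k) hX.dim (hpowN a) t ht
      rw [hdb] at h1
      rw [hda] at h2
      rcases lt_trichotomy (Curv2.deg k X L 1) 0 with h | h | h
      · have : (b : ℤ) * Curv2.deg k X L 1 < 0 := mul_neg_of_pos_of_neg (by omega) h
        omega
      · exact h
      · have : (a : ℤ) * Curv2.deg k X N 1 < 0 := mul_neg_of_pos_of_neg (by omega) (by omega)
        omega
    obtain ⟨i0⟩ := nonempty_iso_of_section (k := k) hX.dim (hpow b) s hs (by rw [hdb, hL0, mul_zero])
    exact hno ⟨b, hb, ⟨i0⟩⟩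
  let a : ℕ → ℕ → ℕ := fun i j => h k (CohB1.tensorMod (CohB1.tensorPow L i) (CohB1.tensorPow N j)) 0
  have hcan : ∀ n, Nonempty (CohB1.tensorMod (CohB1.tensorPow L n) (CohB1.tensorPow N n) ≅ Coh.structureModule X) :=
    fun n => NegTwist.nonempty_pow_tensor_pow (TMul.commIso N L ≪≫ eN) n
  refine hPQ (eq_of_triangular P Q a (fun j => ?_) ?_ fun j => ?_)
  · obtain ⟨f⟩ := hcan j
    exact (h_eq_of_iso (k := k) f 0).trans (h0_structure k X)
  · rcases hcases with hc | hc
    · refine Or.inl fun i j hij => ?_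
      obtain ⟨f⟩ := hcan i
      obtain ⟨g⟩ := TMul.nonempty_powAddIso N i (j - i)
      rw [show i + (j - i) = j by omega] at g
      exact (h_eq_of_iso (k := k) (PicGrp.tensorModIso (Iso.refl _) g.symm ≪≫ (TMul.assocIso _ _ _).symm ≪≫
        PicGrp.tensorModIso f (Iso.refl _) ≪≫ TMul.leftUnitIso _) 0).trans (hc _ (by omega))
    · refine Or.inr fun i j hij => ?_
      obtain ⟨f⟩ := hcan j
      obtain ⟨g⟩ := TMul.nonempty_powAddIso L (i - j) j
      rw [show i - j + j = i by omega] at g
      exact (h_eq_of_iso (k := k) (PicGrp.tensorModIso g.symm (Iso.refl _) ≪≫ TMul.assocIso _ _ _ ≪≫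
        PicGrp.tensorModIso (Iso.refl _) f ≪≫ SecTwist.unitorR _) 0).trans (hc _ (by omega))
  · have hf : ∀ i, Module.Finite k (Coh.HH X (CohB1.tensorMod (CohB1.tensorPow L i) (CohB1.tensorPow N j)) 0) :=
      fun i => finite_proper (A := k) X _ (isCoh_of_inv (TMul.isInvertible_tensorMod (hpow i) (hpowN j))) 0
    have := h_eq_of_iso (k := k) (PicGrp.tensorModIso e (Iso.refl (CohB1.tensorPow N j))) 0
    rw [h_polySum k (fun i => CohB1.tensorPow L i) P _ 0 hf, h_polySum k (fun i => CohB1.tensorPow L i) Q _ 0 hf] at this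
    exact this

end Groth.Agent.WeilFin
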