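import Groth.Agent.WeilFin.DualPow
import Groth.Agent.HNSplit.Dual
import Groth.Agent.W7Slope.Sat
import Groth.Agent.Higgs.Secant
import Groth.Agent.HNSplit.Embed

/-!
# Finite bundles in the sense of Weil have no subbundles of positive degree
-/

set_option autoImplicit false
set_option linter.style.haveILetI false
set_option linter.unusedSectionVars false
set_option backward.isDefEq.respectTransparency false
set_option backward.isDefEq.respectTransparency.types false

universe u

open CategoryTheory CategoryTheory.Limits AlgebraicGeometry TopologicalSpace Opposite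
open Groth.Agent.CohFinite Groth.Agent.CurveRR Groth.Agent.W7Slope

noncomputable section

namespace Groth.Agent.WeilFin

variable {k : Type u} [Field k] {X : Scheme.{u}} [X.Over (Spec (CommRingCat.of k))]
  [IsProper (X ↘ Spec (CommRingCat.of k))] [IsIntegral X]

theorem rank_of_iso' {M N : X.Modules} {r : ℕ} (e : M ≅ N) (h : FlatMod.IsFinLocFreeOfRank r M) :
    FlatMod.IsFinLocFreeOfRank r N := fun x => by
  obtain ⟨U, hx, ⟨i⟩⟩ := h x
  exact ⟨U, hx, ⟨((Scheme.Modules.restrictFunctor U.ι).mapIso e).symm ≪≫ i⟩⟩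

variable (k) in
/-- Rank and degree of a tensor product. -/
theorem rank_deg_tensor (hdim : topologicalKrullDim X = 1) (hX : RegCurve X) {A B : X.Modules} {a b : ℕ}
    (ha : 0 < a) (hA : FlatMod.IsFinLocFreeOfRank a A) (hB : FlatMod.IsFinLocFreeOfRank b B) :
    FlatMod.IsFinLocFreeOfRank (a * b) (CohB1.tensorMod A B) ∧
      Curv2.deg k X (CohB1.tensorMod A B) (a * b) =
        (a : ℤ) * Curv2.deg k X B b + (b : ℤ) * Curv2.deg k X A a := by
  haveI := isNoetherian_of_proper k X
  obtain ⟨hD, hdD⟩ := HNSplit.rank_deg_dual k hdim hX a ha hA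
  haveI := HNSplit.isIso_bidualMap (HNSplit.isFinLocFree_of_rank hA)
  haveI := ExtShX.isIso_dualTensorTo (HNSplit.isFinLocFree_of_rank hD) B
  obtain ⟨hr, hd⟩ := HNSplit.rank_deg_homSh (k := k) hdim hX ha hB hD
  let e : RefHull.homSh (RefHull.dual A) B ≅ CohB1.tensorMod A B :=
    (asIso (ExtShX.dualTensorTo (RefHull.dual A) B)).symm ≪≫
      PicGrp.tensorModIso (asIso (RefHull.bidualMap A)).symm (Iso.refl B)
  refine ⟨rank_of_iso' e hr, ?_⟩
  rw [← W7Slope.deg_iso (k := k) e, hd, hdD]
  ring

variable (k) in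
include k in
/-- Tensor powers of a subbundle. -/
theorem exists_mono_pow (hdim : topologicalKrullDim X = 1) (hX : RegCurve X) {E F : X.Modules} {r s : ℕ}
    (hr : 0 < r) (hs : 0 < s) (hE : FlatMod.IsFinLocFreeOfRank r E) (hF : FlatMod.IsFinLocFreeOfRank s F)
    (i : F ⟶ E) [Mono i] : ∀ n : ℕ,
    FlatMod.IsFinLocFreeOfRank (r ^ n) (CohB1.tensorPow E n) ∧ FlatMod.IsFinLocFreeOfRank (s ^ n) (CohB1.tensorPow F n) ∧
      Curv2.deg k X (CohB1.tensorPow F n) (s ^ n) * s = (n : ℤ) * (s : ℤ) ^ n * Curv2.deg k X F s ∧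
        ∃ j : CohB1.tensorPow F n ⟶ CohB1.tensorPow E n, Mono j := by
  haveI := isNoetherian_of_proper k X
  intro n
  induction n with
  | zero =>
    refine ⟨isFinLocFreeOfRank_one TMul.isInvertible_structureModule,
      isFinLocFreeOfRank_one TMul.isInvertible_structureModule, ?_, 𝟙 _, inferInstance⟩
    show Curv2.deg k X (Coh.structureModule X) 1 * _ = _
    rw [deg_structure]
    simp
  | succ n ih =>
    obtain ⟨hEn, hFn, hd, j, hj⟩ := ih
    obtain ⟨hE', -⟩ := rank_deg_tensor k hdim hX (pow_pos hr n) hEn hE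
    obtain ⟨hF', hdF'⟩ := rank_deg_tensor k hdim hX (pow_pos hs n) hFn hF
    rw [pow_succ, pow_succ]
    refine ⟨hE', hF', ?_, ?_⟩
    · show Curv2.deg k X (CohB1.tensorMod (CohB1.tensorPow F n) F) (s ^ n * s) * s = _
      rw [hdF']
      push_cast
      linear_combination (s : ℤ) * hd
    · haveI := hj
      have h1 : Mono (tmap j F) :=
        (shortExact_tmapR (hasFrames_of_rank hF) (S := ShortComplex.mk j (cokernel.π j) (cokernel.condition j))
          { exact := ShortComplex.exact_cokernel j }).mono_f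
      have h2 : Mono (tmap i (CohB1.tensorPow E n)) :=
        (shortExact_tmapR (hasFrames_of_rank hEn) (S := ShortComplex.mk i (cokernel.π i) (cokernel.condition i))
          { exact := ShortComplex.exact_cokernel i }).mono_f
      exact ⟨(tmap j F ≫ (TMul.commIso _ _).hom) ≫ tmap i (CohB1.tensorPow E n) ≫ (TMul.commIso _ _).hom,
        inferInstance⟩

variable (k) in
/-- Twists of negative enough degree have no sections. -/
theorem exists_vanish (hX : RegCurve X) {G : X.Modules} {n : ℕ} (hG : FlatMod.IsFinLocFreeOfRank n G) :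
    ∃ c : ℤ, ∀ J : X.Modules, PicF.IsInvertible J → Curv2.deg k X J 1 < c →
      h k (CohB1.tensorMod G J) 0 = 0 := by
  haveI := isNoetherian_of_proper k X
  obtain ⟨B, hB⟩ := Easy.deg_sub_bdd (k := k) hX.dim (isCoh_of_rank hG)
  refine ⟨-B, fun J hJ hd => ?_⟩
  by_contra hne
  obtain ⟨t, ht⟩ := exists_section (k := k) hne
  obtain ⟨J', hJ', ⟨e⟩⟩ := W7Hull.exists_tensor_inverse hJ
  have hdd := deg_tensor_inv (k := k) hX.dim hJ hJ'
  rw [W7Slope.deg_iso (k := k) e, deg_structure] at hdd
  let τ : J' ⟶ G := (TMul.leftUnitIso J').inv ≫ tmap t J' ≫ ((TMul.assocIso G J J').hom ≫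
    (PicGrp.tensorModIso (Iso.refl G) e).hom ≫ (SecTwist.unitorR G).hom)
  have hτ : τ ≠ 0 := fun h0 => ht (by
    have h1 : tmap t J' = 0 := by
      refine (cancel_epi (TMul.leftUnitIso J').inv).1 ?_
      refine (cancel_mono ((TMul.assocIso G J J').hom ≫ (PicGrp.tensorModIso (Iso.refl G) e).hom ≫
        (SecTwist.unitorR G).hom)).1 ?_
      rw [Category.assoc]
      exact h0.trans (by rw [comp_zero, zero_comp])
    exact Higgs.tmap_injective hJ' (h1.trans (tmap_zero _).symm))
  have := hB J' τ (HNSplit.mono_of_line k hX hJ' hG τ hτ) hJ'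
  omega

variable [IsAlgClosed k]

variable (k) in
/-- A bundle satisfying a nontrivial polynomial identity has no subbundle of positive degree. -/
theorem deg_sub_le (hdim : topologicalKrullDim X = 1) (hX : RegCurve X) {E F : X.Modules} {r s : ℕ}
    (hr : 0 < r) (hs : 0 < s) (hE : FlatMod.IsFinLocFreeOfRank r E) (hF : FlatMod.IsFinLocFreeOfRank s F)
    (i : F ⟶ E) [Mono i] (P Q : Polynomial ℕ) (hPQ : P ≠ Q)
    (e : Nonempty ((∐ fun i : Fin (P.natDegree + 1) => ∐ fun _ : Fin (P.coeff ↑i) => CohB1.tensorPow E ↑i) ≅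
      (∐ fun i : Fin (Q.natDegree + 1) => ∐ fun _ : Fin (Q.coeff ↑i) => CohB1.tensorPow E ↑i))) :
    Curv2.deg k X F s ≤ 0 := by
  classical
  haveI := isNoetherian_of_proper k X
  obtain ⟨e⟩ := e
  by_contra hpos
  push Not at hpos
  have hpow := exists_mono_pow k hdim hX hr hs hE hF i
  let M := P.natDegree + Q.natDegree + 1
  let S := (Finset.range M).filter fun j => P.coeff j ≠ Q.coeff j
  have hS : S.Nonempty := by
    by_contra hS
    refine hPQ (Polynomial.ext fun j => ?_)
    by_cases hj : j < M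
    · by_contra hc
      exact hS ⟨j, Finset.mem_filter.2 ⟨Finset.mem_range.2 hj, hc⟩⟩
    · rw [Polynomial.coeff_eq_zero_of_natDegree_lt (by omega), Polynomial.coeff_eq_zero_of_natDegree_lt (by omega)]
  let N := S.max' hS
  have hNS : N ∈ S := Finset.max'_mem _ _
  have hNM := Finset.mem_range.1 (Finset.mem_filter.1 hNS).1
  choose b hb using fun n => exists_vanish k hX (hpow n).1
  let c := (Finset.range (N + 1)).inf' ⟨0, Finset.mem_range.2 N.succ_pos⟩ b
  have key : ∀ n, ∀ J : X.Modules, PicF.IsInvertible J → Curv2.deg k X J 1 < c →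
      h k (CohB1.tensorMod (CohB1.tensorPow E n) J) 0 = 0 := by
    intro n
    induction n using Nat.strong_induction_on with
    | _ n ih =>
      intro J hJ hd
      by_cases hn : n ≤ N
      · exact hb n J hJ (lt_of_lt_of_le hd (Finset.inf'_le b (Finset.mem_range.2 (by omega))))
      obtain ⟨m, rfl⟩ : ∃ m, n = N + m := ⟨n - N, by omega⟩
      let a : ℕ → ℕ := fun j => h k (CohB1.tensorMod (CohB1.tensorPow E (j + m)) J) 0
      have hfin : ∀ j, Module.Finite k (Coh.HH X
          (CohB1.tensorMod (CohB1.tensorPow E j) (CohB1.tensorMod (CohB1.tensorPow E m) J)) 0) := fun j =>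
        finite_proper (A := k) X _ (isCoh_tensor' (isCoh_of_rank (hpow j).1)
          (isCoh_tensor' (isCoh_of_rank (hpow m).1) (isCoh_of_inv hJ))) 0
      have heq := h_eq_of_iso (k := k) (PicGrp.tensorModIso e (Iso.refl (CohB1.tensorMod (CohB1.tensorPow E m) J))) 0
      rw [h_polySum k (fun j => CohB1.tensorPow E j) P _ 0 hfin, h_polySum k (fun j => CohB1.tensorPow E j) Q _ 0 hfin] at heq
      have ha : ∀ j, h k (CohB1.tensorMod (CohB1.tensorPow E j) (CohB1.tensorMod (CohB1.tensorPow E m) J)) 0 = a j :=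
        fun j => h_eq_of_iso ((TMul.assocIso _ _ _).symm ≪≫
          PicGrp.tensorModIso (TMul.nonempty_powAddIso E j m).some (Iso.refl J)) 0
      simp only [ha] at heq
      have hext : ∀ (R : Polynomial ℕ), R.natDegree + 1 ≤ M →
          ∑ j ∈ Finset.range (R.natDegree + 1), R.coeff j * a j = ∑ j ∈ Finset.range M, R.coeff j * a j := by
        intro R hR
        refine Finset.sum_subset (fun j hj => Finset.mem_range.2 (by have := Finset.mem_range.1 hj; omega)) fun j _ hj' => ?_
        rw [Polynomial.coeff_eq_zero_of_natDegree_lt (by simp only [Finset.mem_range] at hj'; omega), zero_mul]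
      rw [hext P (by omega), hext Q (by omega), ← Finset.add_sum_erase _ _ (Finset.mem_range.2 hNM),
        ← Finset.add_sum_erase _ _ (Finset.mem_range.2 hNM)] at heq
      have hrest : ∑ j ∈ (Finset.range M).erase N, P.coeff j * a j = ∑ j ∈ (Finset.range M).erase N, Q.coeff j * a j := by
        refine Finset.sum_congr rfl fun j hj => ?_
        obtain ⟨hjN, hjM⟩ := Finset.mem_erase.1 hj
        rcases lt_or_gt_of_ne hjN with hlt | hgt
        · rw [show a j = 0 from ih (j + m) (by omega) J hJ hd, mul_zero, mul_zero]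
        · by_contra hc
          have : j ∈ S := Finset.mem_filter.2 ⟨hjM, fun h => hc (by rw [h])⟩
          have := Finset.le_max' S j this
          omega
      rw [hrest, add_left_inj] at heq
      by_contra hne
      exact (Finset.mem_filter.1 hNS).2 (Nat.eq_of_mul_eq_mul_right (Nat.pos_of_ne_zero hne) heq)
  obtain ⟨n, hn⟩ : ∃ n : ℕ, (Curv2.genus k X : ℤ) + 1 < (n : ℤ) + c :=
    ⟨((Curv2.genus k X : ℤ) + 2 - c).toNat, by omega⟩
  obtain ⟨-, hFn, hdn, j, hj⟩ := hpow (s * n)
  obtain ⟨J, J', hJ, -, hdJ, -, -⟩ := VBTwo.exists_deg k hdim hX (c - 1)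
  have h1 := key (s * n) J hJ (by omega)
  haveI := hj
  haveI := mono_tmap hJ j
  have hle : h k (CohB1.tensorMod (CohB1.tensorPow F (s * n)) J) 0 ≤ h k (CohB1.tensorMod (CohB1.tensorPow E (s * n)) J) 0 := by
    haveI := finite_proper k X (CohB1.tensorMod (CohB1.tensorPow E (s * n)) J)
      (isCoh_tensor' (isCoh_of_rank (hpow (s * n)).1) (isCoh_of_inv hJ)) 0
    exact LinearMap.finrank_le_finrank_of_injective (injective_f (k := k)
      (S := ShortComplex.mk (tmap j J) (cokernel.π _) (cokernel.condition _)) { exact := ShortComplex.exact_cokernel _ })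
  have h2 := VBTwo.le_h0 (k := k) hX (CohB1.tensorMod (CohB1.tensorPow F (s * n)) J) (s ^ (s * n))
  rw [deg_twist (k := k) hX.dim hFn hJ, hdJ, show h k (CohB1.tensorMod (CohB1.tensorPow F (s * n)) J) 0 = 0 by omega] at h2
  have hp : (0 : ℤ) < (s : ℤ) ^ (s * n) := by positivity
  have h3 : (n : ℤ) * (s : ℤ) ^ (s * n) * 1 ≤ Curv2.deg k X (CohB1.tensorPow F (s * n)) (s ^ (s * n)) := by
    have h4 : Curv2.deg k X (CohB1.tensorPow F (s * n)) (s ^ (s * n)) =
        (n : ℤ) * (s : ℤ) ^ (s * n) * Curv2.deg k X F s := by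
      refine mul_right_cancel₀ (show (s : ℤ) ≠ 0 by omega) (hdn.trans ?_)
      push_cast
      ring
    rw [h4]
    exact mul_le_mul_of_nonneg_left (by omega) (by positivity)
  push_cast at h2
  nlinarith [mul_lt_mul_of_pos_right hn hp]

end Groth.Agent.WeilFin
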